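import Mathlib
import Cfsg.Prelude.Def_Transfer

/-!
# Definitions for S4415: a 3'-group `R` inside `GL(W)`, `W` over `F_3`, normalized by an element `b`
with one Jordan block of size 3.
-/

set_option autoImplicit false

namespace Cfsg.Agent.Lib.J3

open Module

universe u

/-- `GL(W)`; `(g * h) v = g (h v)` by `LinearEquiv.mul_apply`. -/
abbrev GLW (W : Type u) [AddCommGroup W] [Module (ZMod 3) W] : Type u := W ≃ₗ[ZMod 3] W

variable {W : Type u} [AddCommGroup W] [Module (ZMod 3) W]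

/-- `b - 1`. -/
def nilp (b : GLW W) : W →ₗ[ZMod 3] W := b.toLinearMap - LinearMap.id

/-- The scalar `-1`. -/
def negW : GLW W := LinearEquiv.neg (ZMod 3)

theorem negW_apply (v : W) : (negW : GLW W) v = -v := rfl

/-- One Jordan block of size 3, the rest trivial. -/
structure JB (b : GLW W) : Prop where
  cube : b ^ 3 = 1
  rank_two : finrank (ZMod 3) (LinearMap.range (nilp b)) = 2
  sq_ne : nilp b ∘ₗ nilp b ≠ 0

/-- The standing hypotheses on `R = [R, b]`. -/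
structure Ctx (R : Subgroup (GLW W)) (b : GLW W) : Prop where
  jb : JB b
  cop : (Nat.card R).Coprime 3
  solv : Group.IsSolvable R
  norm : ∀ r ∈ R, b * r * b⁻¹ ∈ R
  gen : Subgroup.closure {g | ∃ r ∈ R, g = r * b * r⁻¹ * b⁻¹} = R
  fix0 : ∀ v : W, (∀ r ∈ R, r v = v) → v = 0

/-- `{1, v₁, v₂, v₁v₂}` is a four-group on which `b` acts as `v₁ ↦ v₂ ↦ v₁v₂ ↦ v₁`. -/
structure Four (b v₁ v₂ : GLW W) : Prop where
  sq₁ : v₁ ^ 2 = 1
  sq₂ : v₂ ^ 2 = 1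
  comm : v₁ * v₂ = v₂ * v₁
  ne : v₁ ≠ 1
  conj₁ : b * v₁ * b⁻¹ = v₂
  conj₂ : b * v₂ * b⁻¹ = v₁ * v₂

/-- The frame of a four-group: `W = C_W(V) ⊕ ⟨f, bf, b²f⟩`, `b` trivial on `C_W(V)`, and
`⟨f⟩` is the whole `(+,-)`-eigenspace of `(v₁, v₂)`. -/
structure Frame (b v₁ v₂ : GLW W) (f : W) : Prop where
  ne : f ≠ 0
  eig₁ : v₁ f = f
  eig₂ : v₂ f = -f
  line : ∀ w, v₁ w = w → v₂ w = -w → ∃ c : ZMod 3, w = c • f
  triv : ∀ w, v₁ w = w → v₂ w = w → b w = w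
  span : ∀ w, ∃ c : W, ∃ α β γ : ZMod 3, v₁ c = c ∧ v₂ c = c ∧
    w = c + α • f + β • b f + γ • b (b f)

/-- Subgroups of `R` normal in `R` and normalized by `b`. -/
structure Inv (R : Subgroup (GLW W)) (b : GLW W) (N : Subgroup (GLW W)) : Prop where
  le : N ≤ R
  nor : ∀ r ∈ R, ∀ n ∈ N, r * n * r⁻¹ ∈ N
  bnor : ∀ n ∈ N, b * n * b⁻¹ ∈ N

/-- Elementary abelian 2-subgroup. -/
def Elem2 (A : Subgroup (GLW W)) : Prop := ∀ a ∈ A, a ^ 2 = 1

/-- The group-theoretic conclusion of S4415. -/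
def StructConcl (R : Subgroup (GLW W)) : Prop :=
  (Cfsg.IsElementaryAbelian 2 R ∧ Nat.card R = 4) ∨
    (Cfsg.IsExtraspecial 2 R ∧ Nat.card R = 32 ∧
      ∃ A : Subgroup (GLW W), A ≤ R ∧ Cfsg.IsElementaryAbelian 2 A ∧ Nat.card A = 8)

/-- Irreducibility under `R` and `b`. -/
def Irred (R : Subgroup (GLW W)) (b : GLW W) : Prop :=
  ∀ U : Submodule (ZMod 3) W, (∀ r ∈ R, ∀ u ∈ U, r u ∈ U) → (∀ u ∈ U, b u ∈ U) → U = ⊥ ∨ U = ⊤

/-- The vectors fixed by `N`. -/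
def fixS (N : Subgroup (GLW W)) : Submodule (ZMod 3) W where
  carrier := {v | ∀ n ∈ N, n v = v}
  add_mem' := fun ha hb n hn => by rw [map_add, ha n hn, hb n hn]
  zero_mem' := fun n _ => map_zero n
  smul_mem' := fun c _ ha n hn => by rw [map_smul, ha n hn]

/-- `[W, N]`. -/
def comS (N : Subgroup (GLW W)) : Submodule (ZMod 3) W :=
  Submodule.span (ZMod 3) {v | ∃ n ∈ N, ∃ w, v = n w - w}

/-- Monomial action. -/
structure Mono {n : ℕ} (R : Subgroup (GLW W)) (u : Fin n → W) : Prop where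
  li : LinearIndependent (ZMod 3) u
  sp : Submodule.span (ZMod 3) (Set.range u) = ⊤
  act : ∀ r ∈ R, ∀ i, ∃ j, r (u i) = u j ∨ r (u i) = -u j

/-- The data of the `Q₈` branch. -/
structure QD (R : Subgroup (GLW W)) (b : GLW W) (D : Subgroup (GLW W)) (x : GLW W) : Prop where
  inv : Inv R b D
  neg : (negW : GLW W) ∈ D
  min : ∀ D' : Subgroup (GLW W), Inv R b D' → (negW : GLW W) ∈ D' → D' ≤ D →
    D' = D ∨ ∀ y ∈ D', y = 1 ∨ y = negW
  ne : ∃ y ∈ D, y ≠ 1 ∧ y ≠ negW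
  sq : ∀ y ∈ D, y ^ 2 = 1 ∨ y ^ 2 = negW
  mem : x ∈ D
  d_sq : (x * b * x⁻¹ * b⁻¹) ^ 2 = negW

end Cfsg.Agent.Lib.J3
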